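import Cfsg.Agent.Lib.Theta.Poisson

set_option autoImplicit false

/-!
The theta series of an even unimodular lattice of rank 24 is a modular form of weight 12 and level
one; for a lattice without roots it is `7/12 E₄³ + 5/12 E₆²`.
-/

namespace Cfsg.Agent.Lib.Theta

open UpperHalfPlane hiding I
open Complex Matrix MatrixGroups ModularForm EisensteinSeries
open scoped Real MatrixOrder

variable {d : Type*} [Fintype d]

/-- The norm of an integral vector. -/
def qInt (B : Matrix d d ℤ) (k : d → ℤ) : ℤ := k ⬝ᵥ (B *ᵥ k)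

/-- The real matrix of an integral matrix. -/
noncomputable def realMat (B : Matrix d d ℤ) : Matrix d d ℝ := B.map (Int.cast : ℤ → ℝ)

theorem qf_realMat (B : Matrix d d ℤ) (k : d → ℤ) : qf (realMat B) (cast' k) = (qInt B k : ℝ) := by
  simp [qf, qInt, realMat, cast', dotProduct, Matrix.mulVec]

theorem qf_smul (B : Matrix d d ℝ) (c : ℝ) (x : d → ℝ) : qf B (c • x) = c ^ 2 * qf B x := by
  simp only [qf, mulVec_smul, smul_dotProduct, dotProduct_smul, smul_eq_mul]
  ring

theorem posSemidef_realMat [DecidableEq d] {B : Matrix d d ℤ} (hsymm : B.IsSymm)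
    (hnn : ∀ k, 0 ≤ qInt B k) : (realMat B).PosSemidef := by
  have hh : (realMat B).IsHermitian := by
    show (realMat B)ᴴ = realMat B
    rw [conjTranspose_eq_transpose_of_trivial]
    exact congrArg (fun A => A.map (Int.cast : ℤ → ℝ)) hsymm.eq
  have hq : ∀ x : d → ℝ, 0 ≤ qf (realMat B) x := by
    refine isClosed_property (DenseRange.piMap (fun _ : d => Rat.denseRange_cast (𝕜 := ℝ))) ?_ fun r => ?_
    · exact isClosed_le continuous_const (show Continuous fun x : d → ℝ => ∑ i, x i * ∑ j, realMat B i j * x j by fun_prop)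
    · set N : ℕ := ∏ i, (r i).den with hN
      have hN0 : (N : ℝ) ≠ 0 := by
        rw [hN]; exact_mod_cast Finset.prod_ne_zero_iff.mpr fun i _ => (r i).den_nz
      have hk : ∀ i, ∃ k : ℤ, (k : ℝ) = (N : ℝ) * (r i : ℝ) := by
        intro i
        refine ⟨(r i).num * (∏ j ∈ Finset.univ.erase i, (r j).den : ℕ), ?_⟩
        rw [hN, ← Finset.mul_prod_erase Finset.univ _ (Finset.mem_univ i)]
        push_cast
        rw [Rat.cast_def (r i)]
        have : ((r i).den : ℝ) ≠ 0 := by exact_mod_cast (r i).den_nz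
        field_simp
      choose k hk using hk
      have h := qf_smul (realMat B) (N : ℝ) (fun i => (r i : ℝ))
      rw [show (N : ℝ) • (fun i => (r i : ℝ)) = cast' k from funext fun i => (hk i).symm, qf_realMat] at h
      have h0 : (0 : ℝ) ≤ qInt B k := by exact_mod_cast hnn k
      rw [h] at h0
      exact nonneg_of_mul_nonneg_right h0 (by positivity)
  refine posSemidef_iff_dotProduct_mulVec.mpr ⟨hh, fun x => ?_⟩
  simpa [qf] using hq x

theorem exists_root [DecidableEq d] {B : Matrix d d ℤ} (hsymm : B.IsSymm) (hnn : ∀ k, 0 ≤ qInt B k)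
    (hdet : B.det = 1) : ∃ M : Matrix d d ℝ, |M.det| = 1 ∧ Mᵀ * M = realMat B := by
  have h0 : 0 ≤ realMat B := nonneg_iff_posSemidef.mpr (posSemidef_realMat hsymm hnn)
  refine ⟨CFC.sqrt (realMat B), ?_, ?_⟩
  · have h : (CFC.sqrt (realMat B)).det * (CFC.sqrt (realMat B)).det = 1 := by
      rw [← det_mul, CFC.sqrt_mul_sqrt_self _ h0, realMat]
      have := (Int.castRingHom ℝ).map_det B
      rw [hdet] at this
      simpa [RingHom.mapMatrix_apply] using this.symm
    rcases mul_self_eq_one_iff.mp h with h1 | h1 <;> simp [h1]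
  · have hs : (CFC.sqrt (realMat B))ᵀ = CFC.sqrt (realMat B) := by
      have := (nonneg_iff_posSemidef.mp (CFC.sqrt_nonneg (realMat B))).1
      rwa [IsHermitian, conjTranspose_eq_transpose_of_trivial] at this
    rw [hs, CFC.sqrt_mul_sqrt_self _ h0]

/-- The theta series of an integral quadratic form. -/
noncomputable def thetaC (B : Matrix d d ℤ) (z : ℂ) : ℂ := ∑' k : d → ℤ, cexp (π * I * z * (qInt B k : ℂ))

theorem term_eq (B : Matrix d d ℤ) (k : d → ℤ) (z : ℂ) :
    cexp (π * I * z * (qInt B k : ℂ)) = gauss (realMat B) z (cast' k) := by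
  rw [gauss, qf_realMat, Complex.ofReal_intCast]

theorem norm_term (B : Matrix d d ℤ) (k : d → ℤ) (z : ℂ) :
    ‖cexp (π * I * z * (qInt B k : ℂ))‖ = Real.exp (-(π * z.im) * qInt B k) := by
  rw [term_eq, norm_gauss, qf_realMat]

theorem thetaC_inv [DecidableEq d] {B : Matrix d d ℤ} (hsymm : B.IsSymm) (hnn : ∀ k, 0 ≤ qInt B k)
    (hdet : B.det = 1) {z : ℂ} (hz : 0 < z.im) :
    thetaC B z = (I / z) ^ (Fintype.card d / 2 : ℂ) * thetaC B (-1 / z) := by
  obtain ⟨M, hM, hMB⟩ := exists_root hsymm hnn hdet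
  have h := poisson_gauss hM hz
  simp only [hMB, ← term_eq] at h
  rw [thetaC, h]
  congr 1
  have hinv : M⁻¹ * M⁻¹ᵀ = realMat B.adjugate := by
    rw [transpose_nonsing_inv, ← Matrix.mul_inv_rev, hMB]
    refine inv_eq_right_inv ?_
    have := congrArg (fun A => A.map (Int.castRingHom ℝ)) (mul_adjugate B)
    simp only [hdet, one_smul, Matrix.map_mul] at this
    rw [Matrix.map_one _ (map_zero _) (map_one _)] at this
    exact this
  have hcancel : ∀ x : d → ℤ, B.adjugate *ᵥ (B *ᵥ x) = x := fun x => by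
    rw [mulVec_mulVec, adjugate_mul, hdet, one_smul, one_mulVec]
  have hcancel' : ∀ x : d → ℤ, B *ᵥ (B.adjugate *ᵥ x) = x := fun x => by
    rw [mulVec_mulVec, mul_adjugate, hdet, one_smul, one_mulVec]
  rw [thetaC, ← (Equiv.mk (B *ᵥ ·) (B.adjugate *ᵥ ·) hcancel hcancel').tsum_eq
    (fun m => gauss (M⁻¹ * M⁻¹ᵀ) (-1 / z) (cast' m))]
  refine tsum_congr fun x => ?_
  show gauss (M⁻¹ * M⁻¹ᵀ) (-1 / z) (cast' (B *ᵥ x)) = _
  rw [hinv, ← term_eq]
  congr 3
  show (B *ᵥ x) ⬝ᵥ (B.adjugate *ᵥ (B *ᵥ x)) = x ⬝ᵥ (B *ᵥ x)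
  rw [hcancel, dotProduct_comm]

section Even

variable [DecidableEq d] {B : Matrix d d ℤ} (hsymm : B.IsSymm) (hnn : ∀ k, 0 ≤ qInt B k) (hdet : B.det = 1)
  (heven : ∀ k, 2 ∣ qInt B k)

/-- The number of vectors of norm `2n`. -/
noncomputable def repCount (B : Matrix d d ℤ) (n : ℕ) : ℕ := {k : d → ℤ | qInt B k = 2 * (n : ℤ)}.ncard

omit [DecidableEq d] in
theorem thetaC_add_one (heven : ∀ k, 2 ∣ qInt B k) (z : ℂ) : thetaC B (z + 1) = thetaC B z := by
  refine tsum_congr fun k => Complex.exp_eq_exp_iff_exists_int.mpr ?_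
  obtain ⟨n, hn⟩ := heven k
  refine ⟨n, ?_⟩
  rw [hn]
  push_cast
  ring

include hsymm hnn hdet in
theorem summable_exp_qInt {a : ℝ} (ha : 0 < a) :
    Summable fun k : d → ℤ => Real.exp (-a * qInt B k) := by
  obtain ⟨M, hM, hMB⟩ := exists_root hsymm hnn hdet
  refine (summable_exp_qf (M := M) (fun e => by simp [e] at hM) ha).congr fun k => ?_
  rw [hMB, qf_realMat]

include hsymm hnn hdet in
theorem differentiableOn_thetaC : DifferentiableOn ℂ (thetaC B) {z : ℂ | 0 < z.im} := by
  intro z hz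
  have hc : 0 < z.im / 2 := half_pos hz
  have hopen : IsOpen {w : ℂ | z.im / 2 < w.im} := isOpen_lt continuous_const continuous_im
  have h : DifferentiableOn ℂ (thetaC B) {w : ℂ | z.im / 2 < w.im} := by
    refine differentiableOn_tsum_of_summable_norm
      (summable_exp_qInt hsymm hnn hdet (mul_pos Real.pi_pos hc)) (fun k => by fun_prop) hopen fun k w hw => ?_
    rw [norm_term, Real.exp_le_exp]
    have h0 : (0 : ℝ) ≤ qInt B k := by exact_mod_cast hnn k
    have h1 : 0 ≤ π * (w.im - z.im / 2) * qInt B k :=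
      mul_nonneg (mul_nonneg Real.pi_pos.le (sub_nonneg.mpr (le_of_lt hw))) h0
    linarith
  exact (h.differentiableAt (hopen.mem_nhds (show z.im / 2 < z.im from half_lt_self hz))).differentiableWithinAt

include hsymm hnn hdet heven in
theorem hasSum_thetaC (τ : ℍ) :
    HasSum (fun n : ℕ => (repCount B n : ℂ) • Function.Periodic.qParam (1 : ℝ) (τ : ℂ) ^ n) (thetaC B τ) := by
  set q : ℂ := Function.Periodic.qParam (1 : ℝ) (τ : ℂ) with hq
  set nf : (d → ℤ) → ℕ := fun k => (qInt B k / 2).toNat with hnf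
  have hnfk : ∀ k, qInt B k = 2 * (nf k : ℤ) := fun k => by
    obtain ⟨m, hm⟩ := heven k
    have := hnn k
    simp only [hnf]
    omega
  have hsum : Summable fun k : d → ℤ => cexp (π * I * (τ : ℂ) * (qInt B k : ℂ)) := by
    refine Summable.of_norm ((summable_exp_qInt hsymm hnn hdet (mul_pos Real.pi_pos τ.im_pos)).congr fun k => ?_)
    rw [norm_term]
    rfl
  have hterm : ∀ k, cexp (π * I * (τ : ℂ) * (qInt B k : ℂ)) = q ^ nf k := by
    intro k
    rw [hq, Function.Periodic.qParam, ← Complex.exp_nat_mul, hnfk k]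
    congr 1
    push_cast
    ring
  have h := hsum.hasSum.tsum_fiberwise nf
  refine h.congr_fun fun n => ?_
  have hset : nf ⁻¹' {n} = {k : d → ℤ | qInt B k = 2 * (n : ℤ)} := by
    ext k
    simp only [Set.mem_preimage, Set.mem_singleton_iff, Set.mem_setOf_eq]
    have := hnfk k
    omega
  rw [tsum_congr (g := fun _ => q ^ n) (fun k : nf ⁻¹' {n} => (hterm k.1).trans (by rw [k.2])), tsum_const,
    Nat.card_coe_set_eq, hset, repCount, ← Nat.cast_smul_eq_nsmul ℂ]

end Even

section Leech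

variable {B : Matrix (Fin 24) (Fin 24) ℤ} (hsymm : B.IsSymm) (hnn : ∀ k, 0 ≤ qInt B k) (hdet : B.det = 1)
  (heven : ∀ k, 2 ∣ qInt B k)

set_option backward.isDefEq.respectTransparency.types false in
include heven in
theorem thetaC_T : ((fun τ : ℍ => thetaC B τ) ∣[((12 : ℕ) : ℤ)] ModularGroup.T) = fun τ : ℍ => thetaC B τ := by
  ext τ
  rw [SL_slash_apply, denom, modular_T_smul, ModularGroup.T]
  simp [add_comm (1 : ℂ), thetaC_add_one heven]

set_option backward.isDefEq.respectTransparency.types false in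
include hsymm hnn hdet in
theorem thetaC_S : ((fun τ : ℍ => thetaC B τ) ∣[((12 : ℕ) : ℤ)] ModularGroup.S) = fun τ : ℍ => thetaC B τ := by
  ext τ
  suffices thetaC B (-(τ : ℂ))⁻¹ * ((τ : ℂ) ^ 12)⁻¹ = thetaC B τ by
    rw [SL_slash_apply, UpperHalfPlane.modular_S_smul]
    simpa [denom, ModularGroup.S] using this
  rw [thetaC_inv hsymm hnn hdet τ.im_pos, show (-1 : ℂ) / (τ : ℂ) = (-(τ : ℂ))⁻¹ by rw [inv_neg, neg_div, one_div]]
  rw [Fintype.card_fin, show ((24 : ℕ) / 2 : ℂ) = ((12 : ℕ) : ℂ) by norm_num, cpow_natCast, div_pow,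
    show I ^ 12 = 1 by rw [show 12 = 4 * 3 by norm_num, pow_mul, I_pow_four, one_pow]]
  ring

/-- The theta series as a modular form of weight `12`. -/
noncomputable def thetaForm : ModularForm 𝒮ℒ ((12 : ℕ) : ℤ) :=
  { toFun := fun τ : ℍ => thetaC B τ
    slash_action_eq' := fun A hA => by
      obtain ⟨A, rfl⟩ := hA
      exact SlashInvariantForm.slash_action_generators_SL2Z (thetaC_S hsymm hnn hdet) (thetaC_T heven) A
    holo' := by
      rw [UpperHalfPlane.mdifferentiable_iff]
      exact (differentiableOn_thetaC hsymm hnn hdet).congr fun z hz => by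
        simp [ofComplex_apply_of_im_pos hz]
    bdd_at_cusps' := fun hc => by
      rw [Subgroup.IsArithmetic.isCusp_iff_isCusp_SL2Z] at hc
      rw [OnePoint.isBoundedAt_iff_forall_SL2Z hc]
      intro γ _
      show IsBoundedAtImInfty ((fun τ : ℍ => thetaC B τ) ∣[((12 : ℕ) : ℤ)] γ)
      rw [SlashInvariantForm.slash_action_generators_SL2Z (thetaC_S hsymm hnn hdet) (thetaC_T heven)]
      exact isBoundedAtImInfty_of_hasSum_qExpansion one_pos (hasSum_thetaC hsymm hnn hdet heven) }

theorem qExpansion_thetaForm (n : ℕ) :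
    (qExpansion 1 (thetaForm hsymm hnn hdet heven)).coeff n = (repCount B n : ℂ) :=
  (ModularFormClass.qExpansion_coeff_unique one_pos one_mem_strictPeriods_SL
    (f := thetaForm hsymm hnn hdet heven) (hasSum_thetaC hsymm hnn hdet heven) n).symm

include hsymm hnn hdet heven in
theorem repCount_values (h0 : repCount B 0 = 1) (h1 : repCount B 1 = 0) :
    repCount B 2 = 196560 ∧ repCount B 3 = 16773120 ∧ repCount B 4 = 398034000 := by
  set T := thetaForm hsymm hnn hdet heven with hT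
  set A : ModularForm 𝒮ℒ ((12 : ℕ) : ℤ) := ModularForm.mcast (by norm_num) (E₄.pow 3) with hA
  set C : ModularForm 𝒮ℒ ((12 : ℕ) : ℤ) := ModularForm.mcast (by norm_num) (E₆.pow 2) with hC
  set F : ModularForm 𝒮ℒ ((12 : ℕ) : ℤ) := T - (7 / 12 : ℂ) • A - (5 / 12 : ℂ) • C with hF
  have e4 : ∀ n, (qExpansion 1 E₄).coeff n
      = if n = 0 then 1 else -(2 * (4 : ℕ) / bernoulli 4 : ℂ) * (ArithmeticFunction.sigma 3 n) :=
    fun n => E_qExpansion_coeff (by norm_num) ⟨2, rfl⟩ n
  have e6 : ∀ n, (qExpansion 1 E₆).coeff n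
      = if n = 0 then 1 else -(2 * (6 : ℕ) / bernoulli 6 : ℂ) * (ArithmeticFunction.sigma 5 n) :=
    fun n => E_qExpansion_coeff (by norm_num) ⟨3, rfl⟩ n
  have b4 : bernoulli 4 = -1 / 30 := by decide +kernel
  have b6 : bernoulli 6 = 1 / 42 := by decide +kernel
  have s3 : ArithmeticFunction.sigma 3 1 = 1 ∧ ArithmeticFunction.sigma 3 2 = 9 ∧
      ArithmeticFunction.sigma 3 3 = 28 ∧ ArithmeticFunction.sigma 3 4 = 73 := by decide +kernel
  have s5 : ArithmeticFunction.sigma 5 1 = 1 ∧ ArithmeticFunction.sigma 5 2 = 33 ∧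
      ArithmeticFunction.sigma 5 3 = 244 ∧ ArithmeticFunction.sigma 5 4 = 1057 := by decide +kernel
  obtain ⟨a1, a2, a3, a4⟩ := s3
  obtain ⟨c1, c2, c3, c4⟩ := s5
  have hq : qExpansion 1 F = qExpansion 1 T
      - (7 / 12 : ℂ) • (qExpansion 1 E₄ * (qExpansion 1 E₄ * qExpansion 1 E₄))
      - (5 / 12 : ℂ) • (qExpansion 1 E₆ * qExpansion 1 E₆) := by
    rw [hF, FunLike.coe_sub, ModularForm.qExpansion_sub one_pos one_mem_strictPeriods_SL,
      FunLike.coe_sub, ModularForm.qExpansion_sub one_pos one_mem_strictPeriods_SL,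
      FunLike.coe_smul, ModularForm.qExpansion_smul one_pos one_mem_strictPeriods_SL,
      FunLike.coe_smul, ModularForm.qExpansion_smul one_pos one_mem_strictPeriods_SL,
      hA, hC, ModularForm.qExpansion_mcast, ModularForm.qExpansion_mcast,
      ModularForm.qExpansion_pow one_pos one_mem_strictPeriods_SL,
      ModularForm.qExpansion_pow one_pos one_mem_strictPeriods_SL, pow_three, pow_two]
  have hco : ∀ n, (qExpansion 1 F).coeff n = (repCount B n : ℂ)
      - (7 / 12 : ℂ) * (qExpansion 1 E₄ * (qExpansion 1 E₄ * qExpansion 1 E₄)).coeff n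
      - (5 / 12 : ℂ) * (qExpansion 1 E₆ * qExpansion 1 E₆).coeff n := by
    intro n
    rw [hq]
    simp only [map_sub, PowerSeries.coeff_smul, smul_eq_mul, hT, qExpansion_thetaForm]
  have hF0 : F = 0 := by
    refine sturm_bound_levelOne_nat (lt_of_lt_of_le (b := ((2 : ℕ) : ℕ∞)) (by norm_num)
      (PowerSeries.nat_le_order _ _ fun i hi => ?_))
    rw [hco]
    interval_cases i <;>
      norm_num [PowerSeries.coeff_mul, Finset.Nat.antidiagonal_succ, e4, e6, b4, b6, a1, c1, h0, h1,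
        -PowerSeries.coeff_zero_eq_constantCoeff]
  have hv : ∀ n, (repCount B n : ℂ)
      - (7 / 12 : ℂ) * (qExpansion 1 E₄ * (qExpansion 1 E₄ * qExpansion 1 E₄)).coeff n
      - (5 / 12 : ℂ) * (qExpansion 1 E₆ * qExpansion 1 E₆).coeff n = 0 := by
    intro n
    rw [← hco, hF0, FunLike.coe_zero, qExpansion_zero, map_zero]
  have v2 := hv 2
  have v3 := hv 3
  have v4 := hv 4
  norm_num [PowerSeries.coeff_mul, Finset.Nat.antidiagonal_succ, e4, e6, b4, b6, a1, a2, a3, a4, c1, c2, c3, c4,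
    -PowerSeries.coeff_zero_eq_constantCoeff, sub_eq_zero] at v2 v3 v4
  have w2 : (repCount B 2 : ℂ) = 196560 := by linear_combination v2
  have w3 : (repCount B 3 : ℂ) = 16773120 := by linear_combination v3
  have w4 : (repCount B 4 : ℂ) = 398034000 := by linear_combination v4
  exact ⟨by exact_mod_cast w2, by exact_mod_cast w3, by exact_mod_cast w4⟩

end Leech

end Cfsg.Agent.Lib.Theta
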