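import Mathlib

set_option autoImplicit false

/-!
Poisson summation for a Gaussian in finitely many variables: if `B = Mᵀ * M` with `|det M| = 1` then
`∑ₖ exp(π i τ B[k]) = (i/τ)^(n/2) ∑ₘ exp(π i (-1/τ) B⁻¹[m])`.
-/

namespace Cfsg.Agent.Lib.Theta

open MeasureTheory Complex UnitAddTorus Matrix
open scoped Real

variable {d : Type*} [Fintype d]

/-- The quadratic form of a real matrix. -/
noncomputable def qf (B : Matrix d d ℝ) (x : d → ℝ) : ℝ := x ⬝ᵥ (B *ᵥ x)

/-- An integral vector as a real vector. -/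
noncomputable def cast' (k : d → ℤ) : d → ℝ := fun i => (k i : ℝ)

theorem qf_transpose_mul (M : Matrix d d ℝ) (x : d → ℝ) : qf (Mᵀ * M) x = ∑ i, (M *ᵥ x) i ^ 2 := by
  rw [qf, ← mulVec_mulVec, dotProduct_mulVec, ← mulVec_transpose, transpose_transpose, dotProduct]
  simp only [pow_two]

theorem qf_lower [DecidableEq d] {M : Matrix d d ℝ} (hM : M.det ≠ 0) :
    ∃ ε : ℝ, 0 < ε ∧ ∀ x : d → ℝ, ε * ∑ i, x i ^ 2 ≤ qf (Mᵀ * M) x := by
  refine ⟨1 / (1 + ∑ i, ∑ j, M⁻¹ i j ^ 2), by positivity, fun x => ?_⟩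
  set S := ∑ i, ∑ j, M⁻¹ i j ^ 2 with hS
  have hS0 : 0 ≤ S := by rw [hS]; positivity
  have hx : x = M⁻¹ *ᵥ (M *ᵥ x) := by
    rw [mulVec_mulVec, nonsing_inv_mul _ hM.isUnit, one_mulVec]
  have hi : ∀ i, x i ^ 2 ≤ (∑ j, M⁻¹ i j ^ 2) * qf (Mᵀ * M) x := by
    intro i
    rw [qf_transpose_mul]
    conv_lhs => rw [hx]
    exact Finset.sum_mul_sq_le_sq_mul_sq _ _ _
  have hq : 0 ≤ qf (Mᵀ * M) x := by rw [qf_transpose_mul]; positivity
  have h : ∑ i, x i ^ 2 ≤ S * qf (Mᵀ * M) x := by
    rw [hS, Finset.sum_mul]; exact Finset.sum_le_sum fun i _ => hi i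
  rw [div_mul_eq_mul_div, one_mul, div_le_iff₀ (by linarith)]
  nlinarith

theorem summable_exp_int {a : ℝ} (ha : 0 < a) : Summable fun n : ℤ => Real.exp (-a * (n : ℝ) ^ 2) := by
  have := summable_pow_mul_jacobiTheta₂_term_bound 0 (div_pos ha Real.pi_pos) 0
  refine this.congr fun n => ?_
  rw [pow_zero, one_mul]
  congr 1
  field_simp
  ring

theorem summable_exp_fin {a : ℝ} (ha : 0 < a) :
    ∀ n : ℕ, Summable fun k : Fin n → ℤ => Real.exp (-a * ∑ i, (k i : ℝ) ^ 2) := by
  intro n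
  induction n with
  | zero => exact Summable.of_finite
  | succ n ih =>
    rw [← (Fin.consEquiv fun _ : Fin (n + 1) => ℤ).summable_iff]
    refine ((summable_exp_int ha).mul_of_nonneg ih (fun _ => (Real.exp_pos _).le)
      (fun _ => (Real.exp_pos _).le)).congr fun p => ?_
    simp only [Function.comp_apply, Fin.consEquiv_apply, Fin.sum_univ_succ, Fin.cons_zero, Fin.cons_succ,
      ← Real.exp_add, mul_add]

theorem summable_exp_pi {a : ℝ} (ha : 0 < a) :
    Summable fun k : d → ℤ => Real.exp (-a * ∑ i, (k i : ℝ) ^ 2) := by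
  rw [← (Equiv.arrowCongr (Fintype.equivFin d).symm (Equiv.refl ℤ)).summable_iff]
  refine (summable_exp_fin ha (Fintype.card d)).congr fun k => ?_
  simp only [Function.comp_apply, Equiv.arrowCongr_apply, Equiv.coe_refl, Equiv.symm_symm, id_eq]
  exact congrArg (fun t => Real.exp (-a * t))
    ((Fintype.equivFin d).sum_comp (fun j => (k j : ℝ) ^ 2)).symm

theorem summable_exp_qf [DecidableEq d] {M : Matrix d d ℝ} (hM : M.det ≠ 0) {a : ℝ} (ha : 0 < a) :
    Summable fun k : d → ℤ => Real.exp (-a * qf (Mᵀ * M) (cast' k)) := by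
  obtain ⟨ε, hε, hq⟩ := qf_lower hM
  refine Summable.of_nonneg_of_le (fun _ => (Real.exp_pos _).le) (fun k => ?_)
    (summable_exp_pi (mul_pos ha hε))
  rw [Real.exp_le_exp]
  have h := mul_le_mul_of_nonneg_left (hq (cast' k)) ha.le
  simp only [cast'] at h ⊢
  nlinarith

theorem summable_translate [DecidableEq d] {M : Matrix d d ℝ} (hM : M.det ≠ 0) {a : ℝ} (ha : 0 < a) (R : ℝ) :
    ∃ u : (d → ℤ) → ℝ, Summable u ∧ ∀ x : d → ℝ, ∑ i, x i ^ 2 ≤ R →
      ∀ k, Real.exp (-a * qf (Mᵀ * M) (x + cast' k)) ≤ u k := by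
  obtain ⟨ε, hε, hq⟩ := qf_lower hM
  refine ⟨fun k => Real.exp (a * ε * R) * Real.exp (-(a * ε / 2) * ∑ i, (k i : ℝ) ^ 2),
    (summable_exp_pi (by positivity)).mul_left _, fun x hx k => ?_⟩
  dsimp only
  rw [← Real.exp_add, Real.exp_le_exp]
  have h1 := mul_le_mul_of_nonneg_left (hq (x + cast' k)) ha.le
  have h2 : (1 / 2) * ∑ i, (k i : ℝ) ^ 2 - ∑ i, x i ^ 2 ≤ ∑ i, (x + cast' k) i ^ 2 := by
    rw [Finset.mul_sum, ← Finset.sum_sub_distrib]
    refine Finset.sum_le_sum fun i _ => ?_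
    simp only [Pi.add_apply, cast']
    nlinarith [sq_nonneg (2 * x i + (k i : ℝ))]
  have h3 := mul_le_mul_of_nonneg_left h2 (mul_pos ha hε).le
  have h4 := mul_le_mul_of_nonneg_left hx (mul_pos ha hε).le
  nlinarith

/-- The half-open unit box with corner `k`. -/
def box (k : d → ℤ) : Set (d → ℝ) := {x | ∀ i, x i ∈ Set.Ioc (k i : ℝ) (k i + 1)}

theorem measurableSet_box (k : d → ℤ) : MeasurableSet (box k) :=
  MeasurableSet.univ_pi' (fun i => measurableSet_Ioc)

theorem box_disjoint : Pairwise (Function.onFun Disjoint (box (d := d))) := by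
  intro k l hkl
  rw [Function.onFun, Set.disjoint_left]
  intro x hx hy
  refine hkl (funext fun i => ?_)
  obtain ⟨h1, h2⟩ := hx i
  obtain ⟨h3, h4⟩ := hy i
  have e1 : ((k i : ℤ) : ℝ) < (l i + 1 : ℤ) := by push_cast; linarith
  have e2 : ((l i : ℤ) : ℝ) < (k i + 1 : ℤ) := by push_cast; linarith
  have e1' := Int.cast_lt.mp e1
  have e2' := Int.cast_lt.mp e2
  omega

theorem box_iUnion : (⋃ k, box (d := d) k) = Set.univ := by
  refine Set.eq_univ_of_forall fun x => Set.mem_iUnion.mpr ⟨fun i => ⌈x i⌉ - 1, fun i => ?_⟩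
  push_cast
  constructor
  · linarith [Int.ceil_lt_add_one (x i)]
  · linarith [Int.le_ceil (x i)]

theorem box_preimage (k : d → ℤ) : (fun x : d → ℝ => x + cast' k) ⁻¹' box k = box 0 := by
  ext x
  simp only [box, Set.mem_preimage, Set.mem_setOf_eq, Pi.add_apply, cast', Pi.zero_apply, Int.cast_zero, Set.mem_Ioc,
    zero_add]
  refine forall_congr' fun i => ?_
  constructor <;> rintro ⟨h1, h2⟩ <;> constructor <;> linarith

/-- The projection to the torus. -/
noncomputable def proj (x : d → ℝ) : UnitAddTorus d := fun i => (x i : UnitAddCircle)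

theorem proj_isQuotientMap : Topology.IsQuotientMap (proj (d := d)) :=
  (IsOpenQuotientMap.piMap fun _ : d => QuotientAddGroup.isOpenQuotientMap_mk).isQuotientMap

theorem mFourier_proj (m : d → ℤ) (x : d → ℝ) :
    mFourier m (proj x) = cexp (2 * π * I * ∑ i, (m i : ℂ) * x i) := by
  simp only [mFourier, proj, ContinuousMap.coe_mk, fourier_coe_apply, ← Complex.exp_sum, Finset.mul_sum]
  congr 1
  refine Finset.sum_congr rfl fun i _ => ?_
  push_cast
  ring

/-- The Gaussian attached to `B` and `τ`. -/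
noncomputable def gauss (B : Matrix d d ℝ) (τ : ℂ) (x : d → ℝ) : ℂ := cexp (π * I * τ * qf B x)

theorem norm_gauss (B : Matrix d d ℝ) (τ : ℂ) (x : d → ℝ) :
    ‖gauss B τ x‖ = Real.exp (-(π * τ.im) * qf B x) := by
  rw [gauss, Complex.norm_exp]
  congr 1
  simp

theorem continuous_gauss (B : Matrix d d ℝ) (τ : ℂ) : Continuous (gauss B τ) := by
  show Continuous fun x : d → ℝ => cexp (π * I * τ * (∑ i, x i * ∑ j, B i j * x j : ℝ))
  fun_prop

variable [DecidableEq d]

theorem gauss_integral {M : Matrix d d ℝ} (hM : |M.det| = 1) {τ : ℂ} (hτ : 0 < τ.im) (m : d → ℤ) :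
    Integrable (fun x : d → ℝ => cexp (-(2 * π * I) * ∑ i, (m i : ℂ) * x i) * gauss (Mᵀ * M) τ x) ∧
    ∫ x : d → ℝ, cexp (-(2 * π * I) * ∑ i, (m i : ℂ) * x i) * gauss (Mᵀ * M) τ x
      = (I / τ) ^ (Fintype.card d / 2 : ℂ) * cexp (π * I * (-1 / τ) * qf (M⁻¹ * M⁻¹ᵀ) (cast' m)) := by
  have hdet : M.det ≠ 0 := fun e => by simp [e] at hM
  have hu := hdet.isUnit
  have hmp : MeasurePreserving (Matrix.toLin' M) (volume : Measure (d → ℝ)) volume := by
    refine ⟨(Matrix.toLin' M).continuous_of_finiteDimensional.measurable, ?_⟩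
    rw [Real.map_matrix_volume_pi_eq_smul_volume_pi hdet, abs_inv, hM, inv_one, ENNReal.ofReal_one, one_smul]
  have hemb : MeasurableEmbedding (Matrix.toLin' M) := by
    refine (Continuous.measurableEmbedding (Matrix.toLin' M).continuous_of_finiteDimensional fun x y h => ?_)
    simp only [Matrix.toLin'_apply] at h
    have h2 := congrArg (M⁻¹ *ᵥ ·) h
    simpa only [mulVec_mulVec, nonsing_inv_mul _ hu, one_mulVec] using h2
  set w : d → ℝ := M⁻¹ᵀ *ᵥ cast' m with hw
  set b : ℂ := -(π * I * τ) with hb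
  set c : d → ℂ := fun i => -(2 * π * I) * w i with hc
  have hbre : 0 < b.re := by
    simp only [hb, neg_re, mul_re, mul_im, ofReal_re, ofReal_im, I_re, I_im]
    have := mul_pos Real.pi_pos hτ
    linarith
  have hlin : ∀ x : d → ℝ, ∑ i, (m i : ℝ) * x i = ∑ i, w i * (M *ᵥ x) i := by
    intro x
    show cast' m ⬝ᵥ x = w ⬝ᵥ (M *ᵥ x)
    rw [dotProduct_mulVec, hw, ← mulVec_transpose, mulVec_mulVec, ← transpose_mul, nonsing_inv_mul _ hu,
      transpose_one, one_mulVec]
  have hfun : (fun x : d → ℝ => cexp (-(2 * π * I) * ∑ i, (m i : ℂ) * x i) * gauss (Mᵀ * M) τ x)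
      = (fun y : d → ℝ => cexp (-b * ∑ i, (y i : ℂ) ^ 2 + ∑ i, c i * y i)) ∘ Matrix.toLin' M := by
    funext x
    have h1 : (∑ i, (m i : ℂ) * x i) = ∑ i, (w i : ℂ) * ((M *ᵥ x) i : ℝ) := by
      have := congrArg ((↑) : ℝ → ℂ) (hlin x)
      push_cast at this
      exact this
    rw [Function.comp_apply, Matrix.toLin'_apply, gauss, qf_transpose_mul, h1, ← Complex.exp_add]
    congr 1
    simp only [hb, hc, Finset.mul_sum]
    push_cast
    rw [Finset.mul_sum, add_comm]
    congr 1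
    · exact Finset.sum_congr rfl fun i _ => by ring
    · exact Finset.sum_congr rfl fun i _ => by ring
  rw [hfun]
  refine ⟨(hmp.integrable_comp_emb hemb).mpr (GaussianFourier.integrable_cexp_neg_mul_sum_add hbre c), ?_⟩
  refine (hmp.integral_comp hemb (fun y : d → ℝ => cexp (-b * ∑ i, (y i : ℂ) ^ 2 + ∑ i, c i * y i))).trans ?_
  rw [GaussianFourier.integral_cexp_neg_mul_sum_add hbre c]
  have hτ0 : τ ≠ 0 := fun e => by simp [e] at hτ
  have hπ : (π : ℂ) ≠ 0 := ofReal_ne_zero.mpr Real.pi_ne_zero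
  congr 1
  · congr 1
    rw [hb]
    field_simp
    simp
  · congr 1
    have hq : qf (M⁻¹ * M⁻¹ᵀ) (cast' m) = ∑ i, w i ^ 2 := by
      rw [hw, ← qf_transpose_mul, transpose_transpose]
    rw [hq, hb]
    simp only [hc, mul_pow, ← Finset.mul_sum]
    push_cast
    field_simp
    ring

theorem poisson_gauss {M : Matrix d d ℝ} (hM : |M.det| = 1) {τ : ℂ} (hτ : 0 < τ.im) :
    ∑' k : d → ℤ, gauss (Mᵀ * M) τ (cast' k)
      = (I / τ) ^ (Fintype.card d / 2 : ℂ) * ∑' m : d → ℤ, gauss (M⁻¹ * M⁻¹ᵀ) (-1 / τ) (cast' m) := by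
  have hdet : M.det ≠ 0 := fun e => by simp [e] at hM
  have ha : 0 < π * τ.im := mul_pos Real.pi_pos hτ
  set g := gauss (Mᵀ * M) τ with hg
  set F : (d → ℝ) → ℂ := fun x => ∑' k : d → ℤ, g (x + cast' k) with hF
  have hcont : Continuous F := by
    refine continuous_iff_continuousAt.mpr fun x₀ => ?_
    obtain ⟨u, hu, hb⟩ := summable_translate hdet ha (∑ i, x₀ i ^ 2 + 1)
    have hopen : IsOpen {x : d → ℝ | ∑ i, x i ^ 2 < ∑ i, x₀ i ^ 2 + 1} := isOpen_lt (by fun_prop) continuous_const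
    refine ContinuousOn.continuousAt (continuousOn_tsum (s := {x : d → ℝ | ∑ i, x i ^ 2 < ∑ i, x₀ i ^ 2 + 1})
      (fun k => ((continuous_gauss _ _).comp (continuous_add_const _)).continuousOn) hu fun k x hx => ?_)
      (hopen.mem_nhds (lt_add_one _ : ∑ i, x₀ i ^ 2 < _))
    rw [norm_gauss]
    exact hb x (le_of_lt hx) k
  have hper : ∀ (x : d → ℝ) (l : d → ℤ), F (x + cast' l) = F x := by
    intro x l
    simp only [hF]
    rw [← (Equiv.addLeft l).tsum_eq (fun k => g (x + cast' k))]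
    refine tsum_congr fun k => ?_
    congr 1
    funext i
    simp [cast', add_assoc]
  set s : UnitAddTorus d → (d → ℝ) := fun t i => ((AddCircle.equivIco 1 0 (t i) : Set.Ico (0:ℝ) (0 + 1)) : ℝ) with hs
  have hFs : F ∘ s ∘ proj = F := by
    funext x
    have hx : ∀ i, ∃ l : ℤ, s (proj x) i = x i + l := by
      intro i
      have e : ((s (proj x) i : ℝ) : UnitAddCircle) = (x i : UnitAddCircle) :=
        (AddCircle.equivIco 1 0).symm_apply_apply _
      obtain ⟨l, hl⟩ := AddSubgroup.mem_zmultiples_iff.mp (QuotientAddGroup.eq_iff_sub_mem.mp e)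
      exact ⟨l, by simp only [smul_eq_mul, zsmul_eq_mul, mul_one] at hl; linarith⟩
    choose l hl using hx
    show F (s (proj x)) = F x
    rw [show s (proj x) = x + cast' l from funext hl, hper]
  set f : C(UnitAddTorus d, ℂ) := ⟨F ∘ s, proj_isQuotientMap.continuous_iff.mpr (by
    show Continuous (F ∘ s ∘ proj)
    rw [hFs]; exact hcont)⟩ with hf
  have hcoef : ∀ m : d → ℤ, mFourierCoeff f m
      = (I / τ) ^ (Fintype.card d / 2 : ℂ) * gauss (M⁻¹ * M⁻¹ᵀ) (-1 / τ) (cast' m) := by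
    intro m
    obtain ⟨hint, hval⟩ := gauss_integral hM hτ m
    rw [mFourierCoeff_eq_integral _ _ (fun _ => (0 : ℝ))]
    have hset : {x : d → ℝ | ∀ i, x i ∈ Set.Ioc ((0 : ℝ)) (0 + 1)} = box 0 := by
      ext x; simp [box]
    rw [hset, show gauss (M⁻¹ * M⁻¹ᵀ) (-1 / τ) (cast' m)
      = cexp (π * I * (-1 / τ) * qf (M⁻¹ * M⁻¹ᵀ) (cast' m)) from rfl, ← hval]
    set G : (d → ℝ) → ℂ := fun x => cexp (-(2 * π * I) * ∑ i, (m i : ℂ) * x i) * g x with hG
    have hshift : ∀ (k : d → ℤ) (x : d → ℝ),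
        cexp (-(2 * π * I) * ∑ i, (m i : ℂ) * x i) * g (x + cast' k) = G (x + cast' k) := by
      intro k x
      simp only [hG]
      congr 1
      rw [Complex.exp_eq_exp_iff_exists_int]
      refine ⟨∑ i, m i * k i, ?_⟩
      simp only [Pi.add_apply, cast']
      push_cast
      simp only [mul_add, Finset.sum_add_distrib, Finset.mul_sum, Finset.sum_mul]
      rw [add_assoc, ← Finset.sum_add_distrib]
      have : ∀ i : d, -(2 * (π : ℂ) * I) * ((m i : ℂ) * (k i : ℂ)) + (m i : ℂ) * (k i : ℂ) * (2 * π * I) = 0 :=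
        fun i => by ring
      simp only [this, Finset.sum_const_zero, add_zero]
    have hmp : ∀ k : d → ℤ, MeasurePreserving (fun x : d → ℝ => x + cast' k) volume volume := fun k =>
      measurePreserving_add_right volume _
    have hemb : ∀ k : d → ℤ, MeasurableEmbedding (fun x : d → ℝ => x + cast' k) := fun k =>
      (MeasurableEquiv.addRight (cast' k)).measurableEmbedding
    have hbox : ∀ k : d → ℤ, ∫ x in box 0, G (x + cast' k) = ∫ x in box k, G x := by
      intro k
      rw [← box_preimage k]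
      exact (hmp k).setIntegral_preimage_emb (hemb k) G (box k)
    have hbox' : ∀ k : d → ℤ, ∫ x in box 0, ‖G (x + cast' k)‖ = ∫ x in box k, ‖G x‖ := by
      intro k
      rw [← box_preimage k]
      exact (hmp k).setIntegral_preimage_emb (hemb k) (fun x => ‖G x‖) (box k)
    have hI : ∀ k : d → ℤ, IntegrableOn (fun x => G (x + cast' k)) (box 0) := fun k =>
      (((hmp k).integrable_comp_emb (hemb k)).mpr hint).integrableOn
    calc ∫ x in box 0, mFourier (-m) (proj x) • f (proj x)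
        = ∫ x in box 0, ∑' k : d → ℤ, G (x + cast' k) := by
          refine setIntegral_congr_fun (measurableSet_box 0) fun x _ => ?_
          show mFourier (-m) (proj x) • (F ∘ s ∘ proj) x = _
          rw [hFs, smul_eq_mul, mFourier_proj]
          simp only [hF, ← tsum_mul_left]
          refine tsum_congr fun k => ?_
          rw [← hshift k x]
          congr 2
          simp only [Pi.neg_apply, Int.cast_neg, neg_mul, Finset.sum_neg_distrib, mul_neg]
      _ = ∑' k : d → ℤ, ∫ x in box 0, G (x + cast' k) := by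
          refine (integral_tsum_of_summable_integral_norm (fun k => hI k) ?_).symm
          simp only [hbox']
          exact (hasSum_integral_iUnion measurableSet_box box_disjoint
            (box_iUnion (d := d) ▸ hint.norm.integrableOn)).summable
      _ = ∑' k : d → ℤ, ∫ x in box k, G x := tsum_congr hbox
      _ = ∫ x, G x := by
          rw [← integral_iUnion measurableSet_box box_disjoint (box_iUnion (d := d) ▸ hint.integrableOn), box_iUnion,
            setIntegral_univ]
  have hsum : Summable (mFourierCoeff f) := by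
    have hMi : (M⁻¹ᵀ).det ≠ 0 := by
      rw [det_transpose, det_nonsing_inv, Ring.inverse_eq_inv']; exact inv_ne_zero hdet
    have hτ' : 0 < (-1 / τ).im := by
      have hτ0 : τ ≠ 0 := fun e => by simp [e] at hτ
      rw [neg_div, neg_im, one_div, inv_im, neg_div, neg_neg]
      exact div_pos hτ (normSq_pos.mpr hτ0)
    refine (Summable.of_norm ?_).congr fun m => (hcoef m).symm
    simp only [norm_mul, norm_gauss]
    have := summable_exp_qf hMi (mul_pos Real.pi_pos hτ')
    rw [transpose_transpose] at this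
    exact this.mul_left _
  have h0 := (hasSum_mFourier_series_apply_of_summable hsum (proj 0)).tsum_eq
  have hf0 : f (proj 0) = ∑' k : d → ℤ, g (cast' k) := by
    show (F ∘ s ∘ proj) 0 = _
    rw [hFs]
    simp only [hF, zero_add]
  rw [hf0] at h0
  rw [← h0, ← tsum_mul_left]
  refine tsum_congr fun m => ?_
  rw [hcoef, mFourier_proj]
  simp

end Cfsg.Agent.Lib.Theta
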